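import Mathlib.RingTheory.MvPowerSeries.Substitution
import Mathlib.RingTheory.MvPowerSeries.Equiv
import Mathlib.RingTheory.MvPowerSeries.Inverse
import Mathlib.RingTheory.LocalRing.ResidueField.Basic
import Mathlib.RingTheory.Noetherian.Basic
import Mathlib.Data.Finsupp.PWO
import Mathlib.Data.Finsupp.Order

/-!
Changes of variables making a power series regular in the first variable.
-/

set_option autoImplicit false

universe u

open MvPowerSeries

namespace Groth.Agent.RamSam

theorem injective_digits {N : ℕ} : ∀ {n : ℕ} {d d' : Fin n → ℕ}, (∀ i, d i < N) → (∀ i, d' i < N) →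
    ∑ i, d i * N ^ (i : ℕ) = ∑ i, d' i * N ^ (i : ℕ) → d = d'
  | 0, d, d', _, _, _ => funext fun i => i.elim0
  | n + 1, d, d', h, h', e => by
    have he : ∀ c : Fin (n + 1) → ℕ,
        ∑ i, c i * N ^ (i : ℕ) = c 0 + N * ∑ i : Fin n, c i.succ * N ^ (i : ℕ) := fun c => by
      rw [Fin.sum_univ_succ, Finset.mul_sum]
      simp [pow_succ]
      exact Finset.sum_congr rfl fun i _ => by ring
    rw [he, he] at e
    have h0 : d 0 = d' 0 := by
      have := congrArg (· % N) e
      simpa [Nat.add_mul_mod_self_left, Nat.mod_eq_of_lt (h 0), Nat.mod_eq_of_lt (h' 0)] using this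
    rw [h0] at e
    have h1 := Nat.eq_of_mul_eq_mul_left (by have := h 0; omega) (Nat.add_left_cancel e)
    have h2 := injective_digits (fun i => h i.succ) (fun i => h' i.succ) h1
    funext i
    exact Fin.cases h0 (fun i => congrFun h2 i) i

/-- Weights `N ^ i` with a unique minimizer on a given set of exponents. -/
theorem exists_weights {n : ℕ} (S : Set (Fin n →₀ ℕ)) (hS : S.Nonempty) :
    ∃ N : ℕ, 1 ≤ N ∧ ∃ m ∈ S, ∀ d ∈ S, d ≠ m →
      ∑ i, m i * N ^ (i : ℕ) < ∑ i, d i * N ^ (i : ℕ) := by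
  let M : Set (Fin n →₀ ℕ) := {m | Minimal (· ∈ S) m}
  have hle : ∀ d ∈ S, ∃ m ∈ M, m ≤ d := fun d hd => by
    obtain ⟨m, hmd, hm⟩ := exists_minimal_le_of_wellFoundedLT (· ∈ S) d hd
    exact ⟨m, hm, hmd⟩
  have hfin : M.Finite :=
    (setOf_minimal_antichain (· ∈ S)).finite_of_partiallyWellOrderedOn (Set.isPWO_of_wellQuasiOrderedLE M)
  obtain ⟨d₀, hd₀⟩ := hS
  obtain ⟨m₀, hm₀, -⟩ := hle d₀ hd₀
  let N := (hfin.toFinset.sup fun m => Finset.univ.sup fun i => m i) + 1
  have hN : ∀ m ∈ M, ∀ i, m i < N := fun m hm i => Nat.lt_succ_of_le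
    (le_trans (Finset.le_sup (f := fun i => m i) (Finset.mem_univ i))
      (Finset.le_sup (f := fun m : Fin n →₀ ℕ => Finset.univ.sup fun i => m i) (hfin.mem_toFinset.2 hm)))
  obtain ⟨m, hm, hmin⟩ := hfin.exists_minimalFor (fun m : Fin n →₀ ℕ => ∑ i, m i * N ^ (i : ℕ)) M ⟨m₀, hm₀⟩
  refine ⟨N, Nat.le_add_left 1 _, m, hm.1, fun d hd hne => ?_⟩
  obtain ⟨m', hm', hle'⟩ := hle d hd
  have h1 : ∑ i, m' i * N ^ (i : ℕ) ≤ ∑ i, d i * N ^ (i : ℕ) :=
    Finset.sum_le_sum fun i _ => Nat.mul_le_mul_right _ (hle' i)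
  rcases lt_or_ge (∑ i, m i * N ^ (i : ℕ)) (∑ i, d i * N ^ (i : ℕ)) with h | h
  · exact h
  exfalso
  have h2 : ∑ i, m i * N ^ (i : ℕ) = ∑ i, m' i * N ^ (i : ℕ) :=
    le_antisymm (by
      rcases le_total (∑ i, m i * N ^ (i : ℕ)) (∑ i, m' i * N ^ (i : ℕ)) with h' | h'
      · exact h'
      · exact hmin hm' h') (h1.trans h)
  have hmm' : m = m' := DFunLike.coe_injective (injective_digits (hN m hm) (hN m' hm') h2)
  subst hmm'
  obtain ⟨i, hi⟩ : ∃ i, m i < d i := by
    by_contra hc
    push Not at hc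
    exact hne (le_antisymm hc hle')
  exact absurd h (not_le.2 (Finset.sum_lt_sum (fun j _ => Nat.mul_le_mul_right _ (hle' j))
    ⟨i, Finset.mem_univ _, Nat.mul_lt_mul_of_pos_right hi (Nat.pow_pos (Nat.lt_of_lt_of_le Nat.one_pos
      (Nat.le_add_left 1 _)))⟩))

variable {A : Type u} [CommRing A]

theorem mem_map_C_iff {σ : Type*} {I : Ideal A} (hI : I.FG) {f : MvPowerSeries σ A} :
    f ∈ I.map (C : A →+* MvPowerSeries σ A) ↔ ∀ d, coeff d f ∈ I := by
  classical
  constructor
  · intro hf d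
    have h : I.map (C : A →+* MvPowerSeries σ A) ≤ RingHom.ker (map (Ideal.Quotient.mk I)) :=
      Ideal.map_le_iff_le_comap.2 fun a ha => by
        rw [Ideal.mem_comap, RingHom.mem_ker]
        ext d
        rw [coeff_map, coeff_C, map_zero]
        split_ifs with hd
        · exact Ideal.Quotient.eq_zero_iff_mem.2 ha
        · exact map_zero _
    have h1 := congrArg (coeff d) (RingHom.mem_ker.1 (h hf))
    rw [coeff_map, map_zero] at h1
    exact Ideal.Quotient.eq_zero_iff_mem.1 h1
  · intro hx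
    obtain ⟨s, rfl⟩ := hI
    choose c hc using fun d => Submodule.mem_span_finset.1 (hx d)
    let g : A → MvPowerSeries σ A := fun a d => c d a
    have h : f = ∑ a ∈ s, C a * g a := by
      ext d
      rw [map_sum, ← (hc d).2]
      refine Finset.sum_congr rfl fun a _ => ?_
      rw [coeff_C_mul, smul_eq_mul, mul_comm]
      rfl
    rw [h]
    exact Ideal.sum_mem _ fun a ha => Ideal.mul_mem_right _ _ (Ideal.mem_map_of_mem _ (Ideal.subset_span ha))

variable {n : ℕ}

/-- The translation by powers of the first variable. -/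
noncomputable def tw (n : ℕ) (p : Fin n → ℕ) (s : A) : Fin (n + 1) → MvPowerSeries (Fin (n + 1)) A :=
  Fin.cons (X 0) fun i => X i.succ + C s * X 0 ^ p i

theorem tw_zero (p : Fin n → ℕ) (s : A) : tw n p s 0 = X 0 := rfl

theorem tw_succ (p : Fin n → ℕ) (s : A) (i : Fin n) : tw n p s i.succ = X i.succ + C s * X 0 ^ p i := rfl

theorem hasSubst_tw (p : Fin n → ℕ) (hp : ∀ i, 1 ≤ p i) (s : A) : HasSubst (tw n p s) :=
  hasSubst_of_constantCoeff_zero fun i => Fin.cases (by simp [tw])
    (fun i => by simp [tw, zero_pow (Nat.one_le_iff_ne_zero.1 (hp i))]) i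

theorem subst_tw_tw (p : Fin n → ℕ) (hp : ∀ i, 1 ≤ p i) (s t : A) (hst : s + t = 0) (f : MvPowerSeries (Fin (n + 1)) A) :
    subst (tw n p t) (subst (tw n p s) f) = f := by
  have ht := hasSubst_tw p hp t
  rw [subst_comp_subst_apply (hasSubst_tw p hp s) ht]
  have h : (fun i => subst (tw n p t) (tw n p s i)) = (X : Fin (n + 1) → MvPowerSeries (Fin (n + 1)) A) := by
    funext i
    refine Fin.cases ?_ (fun i => ?_) i
    · show subst (tw n p t) (tw n p s 0) = X 0
      rw [tw_zero, subst_X ht, tw_zero]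
    · show subst (tw n p t) (tw n p s i.succ) = X i.succ
      rw [tw_succ, subst_add ht, subst_mul ht, subst_pow ht, subst_X ht, subst_X ht, subst_C, tw_succ, tw_zero,
        add_assoc, ← add_mul, ← map_add, add_comm t s, hst, map_zero, zero_mul, add_zero]
  rw [h, subst_self]
  rfl

/-- The change of variables. -/
noncomputable def twEquiv (p : Fin n → ℕ) (hp : ∀ i, 1 ≤ p i) :
    MvPowerSeries (Fin (n + 1)) A ≃ₐ[A] MvPowerSeries (Fin (n + 1)) A :=
  AlgEquiv.ofAlgHom (substAlgHom (hasSubst_tw p hp 1)) (substAlgHom (hasSubst_tw p hp (-1)))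
    (AlgHom.ext fun f => by simpa using subst_tw_tw p hp (-1) 1 (by simp) f)
    (AlgHom.ext fun f => by simpa using subst_tw_tw p hp 1 (-1) (by simp) f)

theorem coeff_subst_axis (f : MvPowerSeries (Fin (n + 1)) A) (k : ℕ) :
    coeff (Finsupp.single 0 k)
      (subst (Fin.cons (X 0) 0 : Fin (n + 1) → MvPowerSeries (Fin (n + 1)) A) f) =
      coeff (Finsupp.single 0 k) f := by
  classical
  have hb : HasSubst (Fin.cons (X 0) 0 : Fin (n + 1) → MvPowerSeries (Fin (n + 1)) A) :=
    hasSubst_of_constantCoeff_zero fun i => Fin.cases (by simp) (fun i => by simp) i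
  rw [coeff_subst hb, finsum_eq_single _ (Finsupp.single 0 k)]
  · rw [Finsupp.prod_single_index (by simp)]
    simp [coeff_X_pow]
  · intro d hd
    by_cases hex : ∃ i : Fin n, d i.succ ≠ 0
    · obtain ⟨i, hi⟩ := hex
      have h0 : d.prod (fun s e => (Fin.cons (X 0) 0 : Fin (n + 1) → MvPowerSeries (Fin (n + 1)) A) s ^ e) = 0 :=
        Finset.prod_eq_zero (Finsupp.mem_support_iff.2 hi) (by simp [zero_pow hi])
      rw [h0, map_zero, smul_zero]
    · push Not at hex
      have hd' : d = Finsupp.single 0 (d 0) := by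
        ext i
        refine Fin.cases ?_ (fun i => ?_) i
        · simp
        · simp [hex i]
      rw [hd', Finsupp.prod_single_index (by simp)]
      have hk : d 0 ≠ k := fun e => hd (hd'.trans (by rw [e]))
      simp [coeff_X_pow, (Finsupp.single_injective (0 : Fin (n + 1))).eq_iff, Ne.symm hk]

/-- A series not in `m⟦X⟧` becomes regular in the first variable after a change of variables. -/
theorem exists_equiv_not_mem [IsLocalRing A] [IsNoetherianRing A] (g : MvPowerSeries (Fin (n + 1)) A)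
    (hg : g ∉ (IsLocalRing.maximalIdeal A).map (C : A →+* MvPowerSeries (Fin (n + 1)) A)) :
    ∃ e : MvPowerSeries (Fin (n + 1)) A ≃ₐ[A] MvPowerSeries (Fin (n + 1)) A,
      ∃ k : ℕ, IsUnit (coeff (Finsupp.single 0 k) (e g)) := by
  classical
  rw [mem_map_C_iff (IsNoetherian.noetherian _)] at hg
  push Not at hg
  obtain ⟨N, hN, m, hm, hmin⟩ := exists_weights {d | coeff d g ∉ IsLocalRing.maximalIdeal A} hg
  let p : Fin n → ℕ := fun i => N ^ ((i : ℕ) + 1)
  have hp : ∀ i, 1 ≤ p i := fun i => Nat.one_le_pow _ _ hN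
  let w : (Fin (n + 1) →₀ ℕ) → ℕ := fun d => ∑ i, d i * N ^ (i : ℕ)
  refine ⟨twEquiv p hp, w m, ?_⟩
  let b : Fin (n + 1) → MvPowerSeries (Fin (n + 1)) A := Fin.cons (X 0) 0
  have hb : HasSubst b :=
    hasSubst_of_constantCoeff_zero fun i => Fin.cases (by simp [b]) (fun i => by simp [b]) i
  let c : Fin (n + 1) → MvPowerSeries (Fin (n + 1)) A := fun i => X 0 ^ N ^ (i : ℕ)
  have hc : (fun i => subst b (tw n p (1 : A) i)) = c := by
    funext i
    refine Fin.cases ?_ (fun i => ?_) i
    · show subst b (tw n p (1 : A) 0) = c 0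
      rw [tw_zero, subst_X hb]
      simp [c, b]
    · show subst b (tw n p (1 : A) i.succ) = c i.succ
      rw [tw_succ, subst_add hb, subst_mul hb, subst_pow hb, subst_X hb, subst_X hb, subst_C]
      simp [c, b, p]
  have hhc : HasSubst c := hasSubst_of_constantCoeff_zero fun i => by
    simp [c, zero_pow (Nat.one_le_iff_ne_zero.1 (Nat.one_le_pow (i : ℕ) _ hN))]
  have key : coeff (Finsupp.single 0 (w m)) (twEquiv p hp g) =
      ∑ᶠ d, coeff d g • (if w d = w m then (1 : A) else 0) := by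
    rw [← coeff_subst_axis, show (twEquiv p hp g : MvPowerSeries (Fin (n + 1)) A) = subst (tw n p (1 : A)) g from
      substAlgHom_apply (hasSubst_tw p hp 1) g, subst_comp_subst_apply (hasSubst_tw p hp 1) hb, hc, coeff_subst hhc]
    refine finsum_congr fun d => congrArg (coeff d g • ·) ?_
    rw [Finsupp.prod_fintype _ _ (fun i => by simp)]
    simp only [c, ← pow_mul, Finset.prod_pow_eq_pow_sum, coeff_X_pow,
      (Finsupp.single_injective (0 : Fin (n + 1))).eq_iff]
    have hw : ∑ i : Fin (n + 1), N ^ (i : ℕ) * d i = w d := Finset.sum_congr rfl fun i _ => mul_comm _ _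
    rw [hw]
    simp [eq_comm]
  have hfin : (fun d => coeff d g • (if w d = w m then (1 : A) else 0)).HasFiniteSupport := by
    refine (Set.Finite.subset (s := {d : Fin (n + 1) →₀ ℕ | ∀ i, d i ≤ w m})
      (Set.Finite.subset (Set.finite_Iic (Finsupp.equivFunOnFinite.symm fun _ => w m)) fun d hd i => by
        simpa using hd i) fun d hd i => ?_)
    by_contra hlt
    apply hd
    have : w d ≠ w m := fun e => hlt (by
      rw [← e]
      exact le_trans (Nat.le_mul_of_pos_right _ (Nat.pow_pos hN))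
        (Finset.single_le_sum (f := fun j => d j * N ^ (j : ℕ)) (fun _ _ => Nat.zero_le _) (Finset.mem_univ i)))
    simp [this]
  by_contra hu
  rw [key] at hu
  have h1 : IsLocalRing.residue A (∑ᶠ d, coeff d g • (if w d = w m then (1 : A) else 0)) = 0 :=
    Ideal.Quotient.eq_zero_iff_mem.2 hu
  have h2 := AddMonoidHom.map_finsum (IsLocalRing.residue A).toAddMonoidHom hfin
  simp only [RingHom.toAddMonoidHom_eq_coe, AddMonoidHom.coe_coe] at h2
  rw [h2, finsum_eq_single _ m] at h1
  · exact hm (by simpa using h1)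
  · intro d hd
    by_cases hdS : coeff d g ∈ IsLocalRing.maximalIdeal A
    · rw [smul_eq_mul, map_mul, (IsLocalRing.residue_eq_zero_iff _).2 hdS, zero_mul]
    · simp [(hmin d hdS hd).ne', w]

end Groth.Agent.RamSam
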