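import Groth.Agent.RamSam.ChangeVar
import Groth.Agent.LocFlat.Basic
import Mathlib.RingTheory.MvPowerSeries.Rename
import Mathlib.RingTheory.Flat.Stability
import Mathlib.RingTheory.AdicCompletion.AsTensorProduct
import Mathlib.RingTheory.PowerSeries.Ideal
import Mathlib.RingTheory.Flat.TorsionFree
import Mathlib.RingTheory.RingHom.Flat

/-!
Taylor expansion of power series and flatness.
-/

set_option autoImplicit false

universe u

open MvPowerSeries

namespace Groth.Agent.RamSam

variable {R : Type u} [CommRing R]

/-- The series of the coefficients with fixed exponents in the second block. -/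
def slice {σ τ : Type} (w : MvPowerSeries (σ ⊕ τ) R) (e : τ →₀ ℕ) : MvPowerSeries σ R :=
  fun d => coeff (Finsupp.sumElim d e) w

/-- The series of series obtained from a series in two blocks of variables. -/
def slices {σ τ : Type} (w : MvPowerSeries (σ ⊕ τ) R) : MvPowerSeries τ (MvPowerSeries σ R) :=
  fun e => slice w e

/-- Separating two sets of variables. -/
noncomputable def sumEquiv (σ τ : Type) : MvPowerSeries (σ ⊕ τ) R ≃+* MvPowerSeries τ (MvPowerSeries σ R) where
  toFun w := slices w
  invFun v := fun x => coeff (x.comapDomain Sum.inl Sum.inl_injective.injOn)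
    (coeff (x.comapDomain Sum.inr Sum.inr_injective.injOn) v)
  left_inv w := by
    funext x
    refine congrArg w ?_
    ext (i | i) <;> simp
  right_inv v := by
    funext e
    funext d
    show coeff _ (coeff _ v) = v e d
    rw [show (Finsupp.sumElim d e).comapDomain Sum.inl Sum.inl_injective.injOn = d from by ext; simp,
      show (Finsupp.sumElim d e).comapDomain Sum.inr Sum.inr_injective.injOn = e from by ext; simp]
    rfl
  map_add' v w := rfl
  map_mul' v w := by
    classical
    refine MvPowerSeries.ext fun e => MvPowerSeries.ext fun d => ?_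
    show coeff (Finsupp.sumElim d e) (v * w) = coeff d (coeff e (slices v * slices w))
    rw [coeff_mul, coeff_mul, map_sum]
    simp only [coeff_mul, Finset.sum_sigma']
    refine Finset.sum_bij' (fun p _ => ⟨(p.1.comapDomain Sum.inr Sum.inr_injective.injOn,
        p.2.comapDomain Sum.inr Sum.inr_injective.injOn), (p.1.comapDomain Sum.inl Sum.inl_injective.injOn,
        p.2.comapDomain Sum.inl Sum.inl_injective.injOn)⟩)
      (fun q _ => (Finsupp.sumElim q.2.1 q.1.1, Finsupp.sumElim q.2.2 q.1.2)) ?_ ?_ ?_ ?_ ?_
    · intro p hp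
      rw [Finset.mem_antidiagonal] at hp
      simp only [Finset.mem_sigma, Finset.mem_antidiagonal]
      constructor <;> ext i
      · simpa using DFunLike.congr_fun hp (Sum.inr i)
      · simpa using DFunLike.congr_fun hp (Sum.inl i)
    · intro q hq
      simp only [Finset.mem_sigma, Finset.mem_antidiagonal] at hq
      rw [Finset.mem_antidiagonal]
      ext (i | i)
      · simpa using DFunLike.congr_fun hq.2 i
      · simpa using DFunLike.congr_fun hq.1 i
    · intro p _
      ext (i | i) <;> simp
    · intro q _
      ext <;> simp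
    · intro p _
      have hp : ∀ x : σ ⊕ τ →₀ ℕ, Finsupp.sumElim (x.comapDomain Sum.inl Sum.inl_injective.injOn)
          (x.comapDomain Sum.inr Sum.inr_injective.injOn) = x := fun x => by ext (i | i) <;> simp
      show coeff p.1 v * coeff p.2 w = coeff (Finsupp.sumElim _ _) v * coeff (Finsupp.sumElim _ _) w
      rw [hp, hp]

theorem coeff_sumEquiv {σ τ : Type} (w : MvPowerSeries (σ ⊕ τ) R) (e : τ →₀ ℕ) (d : σ →₀ ℕ) :
    coeff d (coeff e (sumEquiv σ τ w)) = coeff (Finsupp.sumElim d e) w := rfl

variable (n : ℕ)

theorem sumElim_zero_right {σ τ : Type} (d : σ →₀ ℕ) :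
    Finsupp.sumElim d (0 : τ →₀ ℕ) = Finsupp.embDomain Function.Embedding.inl d := by
  ext (i | i)
  · rw [show (Sum.inl i : σ ⊕ τ) = Function.Embedding.inl i from rfl, Finsupp.embDomain_apply_self]; simp
  · rw [Finsupp.embDomain_notin_range _ _ _ (by simp)]; simp

theorem sumElim_zero_left {σ τ : Type} (e : τ →₀ ℕ) :
    Finsupp.sumElim (0 : σ →₀ ℕ) e = Finsupp.embDomain Function.Embedding.inr e := by
  ext (i | i)
  · rw [Finsupp.embDomain_notin_range _ _ _ (by simp)]; simp
  · rw [show (Sum.inr i : σ ⊕ τ) = Function.Embedding.inr i from rfl, Finsupp.embDomain_apply_self]; simp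

theorem constantCoeff_sumEquiv {σ τ : Type} (w : MvPowerSeries (σ ⊕ τ) R) :
    constantCoeff (sumEquiv σ τ w) = killCompl Function.Embedding.inl w := by
  ext d
  rw [coeff_killCompl, ← coeff_zero_eq_constantCoeff_apply, coeff_sumEquiv, sumElim_zero_right]

theorem sumEquiv_rename_inl {σ τ : Type} [Finite σ] (b : MvPowerSeries σ R) :
    sumEquiv σ τ (rename (Function.Embedding.inl : σ ↪ σ ⊕ τ) b) = C b := by
  classical
  ext e d
  rw [coeff_sumEquiv, coeff_C]
  split_ifs with he
  · subst he
    rw [sumElim_zero_right, coeff_embDomain_rename]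
  · rw [map_zero, coeff_rename_eq_zero]
    rintro ⟨x, hx⟩
    apply he
    ext i
    have h1 := DFunLike.congr_fun hx (Sum.inr i)
    rw [Finsupp.mapDomain_notin_range _ _ (by simp)] at h1
    simpa using h1.symm

theorem sumEquiv_rename_inr {σ τ : Type} [Finite τ] (b : MvPowerSeries τ R) :
    sumEquiv σ τ (rename (Function.Embedding.inr : τ ↪ σ ⊕ τ) b) = MvPowerSeries.map C b := by
  classical
  ext e d
  rw [coeff_sumEquiv, coeff_map, coeff_C]
  split_ifs with hd
  · subst hd
    rw [sumElim_zero_left, coeff_embDomain_rename]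
  · rw [coeff_rename_eq_zero]
    rintro ⟨x, hx⟩
    apply hd
    ext i
    have h1 := DFunLike.congr_fun hx (Sum.inl i)
    rw [Finsupp.mapDomain_notin_range _ _ (by simp)] at h1
    simpa using h1.symm

/-- The substitution of a two-block change of variables. -/
noncomputable def blk (a b c d : R) : Fin n ⊕ Fin n → MvPowerSeries (Fin n ⊕ Fin n) R :=
  Sum.elim (fun i => C a * X (Sum.inl i) + C b * X (Sum.inr i))
    (fun i => C c * X (Sum.inl i) + C d * X (Sum.inr i))

theorem blk_inl (a b c d : R) (i : Fin n) :
    blk n a b c d (Sum.inl i) = C a * X (Sum.inl i) + C b * X (Sum.inr i) := rfl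

theorem blk_inr (a b c d : R) (i : Fin n) :
    blk n a b c d (Sum.inr i) = C c * X (Sum.inl i) + C d * X (Sum.inr i) := rfl

theorem hasSubst_blk (a b c d : R) : HasSubst (blk n a b c d) :=
  hasSubst_of_constantCoeff_zero fun i => by rcases i with i | i <;> simp [blk]

theorem subst_blk_blk (a b c d a' b' c' d' : R) (f : MvPowerSeries (Fin n ⊕ Fin n) R) :
    subst (blk n a' b' c' d') (subst (blk n a b c d) f) =
      subst (blk n (a * a' + b * c') (a * b' + b * d') (c * a' + d * c') (c * b' + d * d')) f := by
  have h := hasSubst_blk n a' b' c' d'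
  rw [subst_comp_subst_apply (hasSubst_blk n a b c d) h]
  congr 1
  funext i
  rcases i with i | i <;>
  · simp only [blk_inl, blk_inr, subst_add h, subst_mul h, subst_C, subst_X h, map_add, map_mul]
    ring

theorem subst_blk_one (f : MvPowerSeries (Fin n ⊕ Fin n) R) : subst (blk n (1 : R) 0 0 1) f = f := by
  have h : blk n (1 : R) 0 0 1 = X := by
    funext i; rcases i with i | i <;> simp [blk]
  rw [h, subst_self]
  rfl

/-- `X ↦ X + Y`. -/
noncomputable def shift : MvPowerSeries (Fin n ⊕ Fin n) R ≃ₐ[R] MvPowerSeries (Fin n ⊕ Fin n) R :=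
  AlgEquiv.ofAlgHom (substAlgHom (hasSubst_blk n 1 1 0 1)) (substAlgHom (hasSubst_blk n 1 (-1) 0 1))
    (AlgHom.ext fun f => by simp [subst_blk_blk, subst_blk_one])
    (AlgHom.ext fun f => by simp [subst_blk_blk, subst_blk_one])

theorem shift_apply (f : MvPowerSeries (Fin n ⊕ Fin n) R) : shift n f = subst (blk n (1 : R) 1 0 1) f :=
  substAlgHom_apply (hasSubst_blk n 1 1 0 1) f

/-- Taylor expansion `b ↦ b (X + Y)`. -/
noncomputable def taylor : MvPowerSeries (Fin n) R →+* MvPowerSeries (Fin n) (MvPowerSeries (Fin n) R) :=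
  (((sumEquiv (Fin n) (Fin n)).symm.trans (shift n).toRingEquiv).trans (sumEquiv (Fin n) (Fin n))).toRingHom.comp C

theorem taylor_apply (b : MvPowerSeries (Fin n) R) :
    taylor n b = sumEquiv (Fin n) (Fin n)
      (subst (blk n (1 : R) 1 0 1) (rename (Function.Embedding.inl : Fin n ↪ Fin n ⊕ Fin n) b)) := by
  show sumEquiv (Fin n) (Fin n) (shift n ((sumEquiv (Fin n) (Fin n)).symm (C b))) = _
  rw [← sumEquiv_rename_inl, RingEquiv.symm_apply_apply, shift_apply]

theorem constantCoeff_taylor (b : MvPowerSeries (Fin n) R) : constantCoeff (taylor n b) = b := by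
  rw [taylor_apply, constantCoeff_sumEquiv]
  have hX : HasSubst (fun i : Fin n ⊕ Fin n => Sum.elim (X : Fin n → MvPowerSeries (Fin n) R) 0 i) :=
    hasSubst_of_constantCoeff_zero fun i => by rcases i with i | i <;> simp
  have hkill : ∀ w : MvPowerSeries (Fin n ⊕ Fin n) R,
      killCompl Function.Embedding.inl w = subst (Sum.elim (X : Fin n → MvPowerSeries (Fin n) R) 0) w := by
    intro w
    classical
    ext d
    rw [coeff_killCompl, coeff_subst hX, finsum_eq_single _ (Finsupp.embDomain Function.Embedding.inl d)]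
    · rw [Finsupp.prod_embDomain]
      simp only [Function.Embedding.inl_apply, Sum.elim_inl]
      rw [← monomial_one_eq, coeff_monomial_same, smul_eq_mul, mul_one]
    · intro x hx
      by_cases hr : ∃ i, x (Sum.inr i) ≠ 0
      · obtain ⟨i, hi⟩ := hr
        rw [show (x.prod fun s e => (Sum.elim (X : Fin n → MvPowerSeries (Fin n) R) 0 s) ^ e) = 0 from
          Finset.prod_eq_zero (Finsupp.mem_support_iff.2 hi) (by simp [zero_pow hi]), map_zero, smul_zero]
      · push Not at hr
        obtain ⟨d', rfl⟩ : ∃ d', Finsupp.embDomain Function.Embedding.inl d' = x :=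
          ⟨x.comapDomain Sum.inl Sum.inl_injective.injOn, by
            rw [← sumElim_zero_right]
            ext (i | i)
            · simp
            · simp [hr i]⟩
        rw [Finsupp.prod_embDomain]
        simp only [Function.Embedding.inl_apply, Sum.elim_inl]
        rw [← monomial_one_eq, coeff_monomial_ne (fun e => hx (by rw [e])), smul_zero]
  rw [hkill, subst_comp_subst_apply (hasSubst_blk n 1 1 0 1) hX, rename_eq_subst,
    subst_comp_subst_apply (HasSubst.X_comp _) (hasSubst_of_constantCoeff_zero fun i => by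
      rcases i with i | i <;> simp [blk, subst_add hX, subst_mul hX, subst_X hX])]
  conv_rhs => rw [← id_eq b, ← subst_self]
  congr 1
  funext i
  simp only [Function.comp_apply, Function.Embedding.inl_apply]
  rw [subst_X (hasSubst_of_constantCoeff_zero fun i => by
      rcases i with i | i <;> simp [blk, subst_add hX, subst_mul hX, subst_X hX])]
  simp [blk, subst_add hX, subst_mul hX, subst_X hX]

/-- An ideal whose Taylor expansions vanish comes from the base. -/
theorem le_map_comap_of_taylor_mem [IsNoetherianRing R] (q : Ideal (MvPowerSeries (Fin n) R))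
    (h : ∀ b ∈ q, taylor n b ∈ q.map (C : _ →+* MvPowerSeries (Fin n) (MvPowerSeries (Fin n) R))) :
    q ≤ (q.comap (C : R →+* MvPowerSeries (Fin n) R)).map C := by
  intro b hb
  rw [mem_map_C_iff (IsNoetherian.noetherian _)]
  intro d
  rw [Ideal.mem_comap]
  let E := sumEquiv (R := R) (Fin n) (Fin n)
  let ψ := (substAlgHom (R := R) (hasSubst_blk n (1 : R) 0 (-1) 1)).toRingHom
  let Φ : MvPowerSeries (Fin n) (MvPowerSeries (Fin n) R) →+* MvPowerSeries (Fin n) (MvPowerSeries (Fin n) R) :=
    (E.toRingHom.comp ψ).comp E.symm.toRingHom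
  have hC : ∀ x, Φ (C x) = C x := by
    intro x
    show E (ψ (E.symm (C x))) = C x
    rw [← sumEquiv_rename_inl, RingEquiv.symm_apply_apply]
    congr 1
    show substAlgHom _ _ = _
    rw [substAlgHom_apply, rename_eq_subst, subst_comp_subst_apply (HasSubst.X_comp _) (hasSubst_blk n _ _ _ _)]
    congr 1
    funext i
    simp only [Function.comp_apply, Function.Embedding.inl_apply]
    rw [subst_X (hasSubst_blk n (1 : R) 0 (-1) 1), blk_inl]
    simp
  have hT : Φ (taylor n b) = MvPowerSeries.map C b := by
    show E (ψ (E.symm (taylor n b))) = _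
    rw [taylor_apply, RingEquiv.symm_apply_apply, ← sumEquiv_rename_inr]
    congr 1
    show substAlgHom _ _ = _
    rw [substAlgHom_apply, subst_blk_blk, rename_eq_subst, rename_eq_subst,
      subst_comp_subst_apply (HasSubst.X_comp _) (hasSubst_blk n _ _ _ _)]
    congr 1
    funext i
    simp only [Function.comp_apply, Function.Embedding.inl_apply, Function.Embedding.inr_apply]
    rw [subst_X (hasSubst_blk n _ _ _ _), blk_inl]
    simp
  have hmem : Φ (taylor n b) ∈ q.map (C : _ →+* MvPowerSeries (Fin n) (MvPowerSeries (Fin n) R)) := by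
    have h1 := Ideal.mem_map_of_mem Φ (h b hb)
    rw [Ideal.map_map] at h1
    have h2 : Φ.comp C = (C : _ →+* MvPowerSeries (Fin n) (MvPowerSeries (Fin n) R)) := RingHom.ext hC
    rwa [h2] at h1
  rw [hT, mem_map_C_iff (IsNoetherian.noetherian _)] at hmem
  have := hmem d
  rwa [coeff_map] at this

/-- Power series over a Noetherian ring are flat. -/
theorem flat_C [IsNoetherianRing R] (σ : Type) [Finite σ] :
    (C : R →+* MvPowerSeries σ R).Flat := by
  haveI : Module.Flat (MvPolynomial σ R) (AdicCompletion (MvPolynomial.idealOfVars σ R) (MvPolynomial σ R)) :=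
    AdicCompletion.flat_of_isNoetherian _
  haveI : Module.Flat R (AdicCompletion (MvPolynomial.idealOfVars σ R) (MvPolynomial σ R)) :=
    Module.Flat.trans R (MvPolynomial σ R) _
  have h : Module.Flat R (MvPowerSeries σ R) :=
    Module.Flat.of_linearEquiv ((toAdicCompletionAlgEquiv σ R).restrictScalars R).toLinearEquiv
  exact RingHom.flat_algebraMap_iff.2 h

theorem flat_taylor [IsNoetherianRing R] : (taylor (R := R) n).Flat :=
  RingHom.Flat.comp (flat_C _) (RingHom.Flat.of_bijective (RingEquiv.bijective _))

end Groth.Agent.RamSam
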